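import Mathlib

/-!
# Vanishing of the first two Čech groups passes to flat modules
-/

universe u

open TensorProduct

namespace Groth.Agent.FlatHartogs

variable {A : Type u} [CommRing A] {ι : Type} [Fintype ι]

/-- `a ↦ (fᵢⁿ a)`. -/
def powMap (f : ι → A) (n : ℕ) (M : Type u) [AddCommGroup M] [Module A M] : M →ₗ[A] (ι → M) :=
  LinearMap.pi fun i => f i ^ n • LinearMap.id

/-- `(aᵢ) ↦ (fⱼⁿ aᵢ - fᵢⁿ aⱼ)`. -/
def relMap (f : ι → A) (n : ℕ) (M : Type u) [AddCommGroup M] [Module A M] : (ι → M) →ₗ[A] (ι × ι → M) :=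
  LinearMap.pi fun p => f p.2 ^ n • LinearMap.proj p.1 - f p.1 ^ n • LinearMap.proj p.2

@[simp] theorem powMap_apply (f : ι → A) (n : ℕ) (M : Type u) [AddCommGroup M] [Module A M] (m : M) (i : ι) :
    powMap f n M m i = f i ^ n • m := rfl

@[simp] theorem relMap_apply (f : ι → A) (n : ℕ) (M : Type u) [AddCommGroup M] [Module A M] (m : ι → M)
    (p : ι × ι) : relMap f n M m p = f p.2 ^ n • m p.1 - f p.1 ^ n • m p.2 := rfl

variable [DecidableEq ι]

/-- `M ⊗ Aᴵ ≅ Mᴵ`. -/
noncomputable def piEquiv (A : Type u) [CommRing A] (κ : Type) [Fintype κ] [DecidableEq κ] (M : Type u)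
    [AddCommGroup M] [Module A M] : (M ⊗[A] (κ → A)) ≃ₗ[A] (κ → M) :=
  TensorProduct.piScalarRight A A M κ

theorem powMap_comm (f : ι → A) (n : ℕ) (M : Type u) [AddCommGroup M] [Module A M] (z : M ⊗[A] A) :
    piEquiv A ι M ((powMap f n A).lTensor M z) = powMap f n M (TensorProduct.rid A M z) := by
  induction z with
  | zero => simp
  | tmul m a =>
    funext i
    simp [piEquiv, smul_smul]
  | add x y hx hy => simp [hx, hy]

theorem relMap_comm (f : ι → A) (n : ℕ) (M : Type u) [AddCommGroup M] [Module A M] (z : M ⊗[A] (ι → A)) :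
    piEquiv A (ι × ι) M ((relMap f n A).lTensor M z) = relMap f n M (piEquiv A ι M z) := by
  induction z with
  | zero => simp
  | tmul m a =>
    funext i
    simp [piEquiv, smul_smul, sub_smul]
  | add x y hx hy => simp [hx, hy]

theorem powMap_injective_of_flat (f : ι → A) (n : ℕ) (M : Type u) [AddCommGroup M] [Module A M] [Module.Flat A M]
    (h : Function.Injective (powMap f n A)) : Function.Injective (powMap f n M) := fun x y e => by
  have h' := Module.Flat.lTensor_preserves_injective_linearMap (M := M) _ h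
  apply (TensorProduct.rid A M).symm.injective
  apply h'
  apply (piEquiv A ι M).injective
  rw [powMap_comm, powMap_comm, LinearEquiv.apply_symm_apply, LinearEquiv.apply_symm_apply, e]

theorem exists_powMap_of_flat (f : ι → A) (n : ℕ) (M : Type u) [AddCommGroup M] [Module A M] [Module.Flat A M]
    (h : Function.Exact (powMap f n A) (relMap f n A)) (m : ι → M) (hm : relMap f n M m = 0) :
    ∃ x : M, powMap f n M x = m := by
  have h' := Module.Flat.lTensor_exact M h
  obtain ⟨z, hz⟩ := (h' ((piEquiv A ι M).symm m)).1 ((piEquiv A (ι × ι) M).injective (by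
    rw [relMap_comm, LinearEquiv.apply_symm_apply, hm, map_zero]))
  exact ⟨TensorProduct.rid A M z, by rw [← powMap_comm, hz, LinearEquiv.apply_symm_apply]⟩

end Groth.Agent.FlatHartogs
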