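import Groth.Agent.FlatHartogs.Scheme
import Groth.Agent.Hartogs.Basic
import Groth.Agent.S10834

/-!
# The Čech sequence of an ideal along which the local rings are regular of dimension at least two
-/

set_option backward.isDefEq.respectTransparency false
set_option backward.isDefEq.respectTransparency.types false

universe u

open CategoryTheory AlgebraicGeometry TopologicalSpace Opposite

namespace Groth.Agent.FlatHartogs

section Transfer

variable {A B : Type u} [CommRing A] [CommRing B] {ι : Type} (g : ι → B) (f : ι → A) (σ : A →+* B)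
  (hσ : Function.Bijective σ) (hg : ∀ i, σ (f i) = g i) (n : ℕ)

include hσ hg in
theorem powMap_injective_of_ringEquiv (h : Function.Injective (powMap g n B)) : Function.Injective (powMap f n A) :=
  fun x y e => hσ.1 (h (funext fun i => by
    have := congrArg σ (congrFun e i)
    simpa [hg] using this))

include hσ hg in
theorem powMap_exact_of_ringEquiv (h : Function.Exact (powMap g n B) (relMap g n B)) :
    Function.Exact (powMap f n A) (relMap f n A) := by
  intro a
  constructor
  · intro ha
    obtain ⟨x, hx⟩ := (h fun i => σ (a i)).1 (funext fun p => by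
      have := congrArg σ (congrFun ha p)
      simpa [hg] using this)
    obtain ⟨y, rfl⟩ := hσ.2 x
    refine ⟨y, funext fun i => hσ.1 ?_⟩
    have := congrFun hx i
    simpa [hg] using this
  · rintro ⟨x, rfl⟩
    funext p
    simp only [relMap_apply, powMap_apply, smul_smul, mul_comm, sub_self, Pi.zero_apply]

end Transfer

variable {R : Type u} [CommRing R] {ι : Type} [Fintype ι] (g : ι → R)

theorem powMap_bij_of_isUnit {i : ι} (hi : IsUnit (g i)) (n : ℕ) :
    Function.Injective (powMap g n R) ∧ Function.Exact (powMap g n R) (relMap g n R) := by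
  refine ⟨fun x y e => (hi.pow n).mul_left_cancel (congrFun e i), fun a => ⟨fun ha => ?_, ?_⟩⟩
  · refine ⟨↑(hi.pow n).unit⁻¹ * a i, funext fun j => (hi.pow n).mul_left_cancel ?_⟩
    have e : g j ^ n * a i = g i ^ n * a j := sub_eq_zero.1 (congrFun ha (i, j))
    rw [powMap_apply, smul_eq_mul, mul_left_comm, ← mul_assoc (g i ^ n), IsUnit.mul_val_inv, one_mul, e]
  · rintro ⟨x, rfl⟩
    funext p
    simp only [relMap_apply, powMap_apply, smul_smul, mul_comm, sub_self, Pi.zero_apply]

theorem powMap_bij_of_depth [IsNoetherianRing R]
    (h : ∀ p : PrimeSpectrum R, (∀ i, g i ∈ p.asIdeal) →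
      (2 : ℕ∞) ≤ LocCoh.depth (Localization.AtPrime p.asIdeal) (Localization.AtPrime p.asIdeal)) (n : ℕ) :
    Function.Injective (powMap g n R) ∧ Function.Exact (powMap g n R) (relMap g n R) := by
  let S : Scheme.{u} := Spec (CommRingCat.of R)
  let σ : R →+* Γ(S, ⊤) := (Scheme.ΓSpecIso (CommRingCat.of R)).inv.hom
  have hσ : Function.Bijective σ := ConcreteCategory.bijective_of_isIso (Scheme.ΓSpecIso (CommRingCat.of R)).inv
  let f' : ι → Γ(S, ⊤) := fun i => σ (g i)
  let O : S.Opens := ⨆ i, S.basicOpen (f' i)
  have hbij := Hartogs.spec_bijective R O fun p hp => h p fun i => by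
    by_contra hi
    exact hp (Opens.mem_iSup.2 ⟨i, (basicOpen_eq_of_affine (R := CommRingCat.of R) (g i)).ge hi⟩)
  exact ⟨powMap_injective_of_ringEquiv f' g σ hσ (fun _ => rfl) n
      (powMap_injective le_top f' (fun x hx => Opens.mem_iSup.1 hx) hbij.1 n),
    powMap_exact_of_ringEquiv f' g σ hσ (fun _ => rfl) n
      (powMap_exact le_top f' (fun i => le_iSup (fun i => S.basicOpen (f' i)) i) (fun x hx => Opens.mem_iSup.1 hx) hbij n)⟩

variable {A : Type u} [CommRing A] (f : ι → A)

/-- Regularity of dimension at least two along `V(f)` gives the Čech sequence. -/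
theorem powMap_bij_of_regular
    (h : ∀ p : PrimeSpectrum A, (∀ i, f i ∈ p.asIdeal) →
      IsRegularLocalRing (Localization.AtPrime p.asIdeal) ∧
        (2 : WithBot ℕ∞) ≤ ringKrullDim (Localization.AtPrime p.asIdeal)) (n : ℕ) :
    Function.Injective (powMap f n A) ∧ Function.Exact (powMap f n A) (relMap f n A) := by
  classical
  have hloc : ∀ (m : Ideal A) [m.IsMaximal],
      Function.Injective (powMap (fun i => algebraMap A (Localization.AtPrime m) (f i)) n (Localization.AtPrime m)) ∧
      Function.Exact (powMap (fun i => algebraMap A (Localization.AtPrime m) (f i)) n (Localization.AtPrime m))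
        (relMap (fun i => algebraMap A (Localization.AtPrime m) (f i)) n (Localization.AtPrime m)) := fun m _ => by
    by_cases hm : ∀ i, f i ∈ m
    · haveI := (h ⟨m, inferInstance⟩ hm).1
      refine powMap_bij_of_depth _ (fun p hp => ?_) n
      let q : PrimeSpectrum A := ⟨p.asIdeal.comap (algebraMap A (Localization.AtPrime m)), inferInstance⟩
      obtain ⟨hreg, hdim⟩ := h q fun i => hp i
      let σ : Localization.AtPrime q.asIdeal ≃ₐ[A] Localization.AtPrime p.asIdeal :=
        IsLocalization.localizationLocalizationAtPrimeIsoLocalization m.primeCompl p.asIdeal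
      haveI := hreg
      have hd : (2 : ℕ∞) ≤ LocCoh.depth (Localization.AtPrime q.asIdeal) (Localization.AtPrime q.asIdeal) := by
        rw [← S10834.depth_of_regular] at hdim
        exact WithBot.coe_le_coe.1 hdim
      exact hd.trans (Alg6.depth_eq_of_semilinear σ.toRingEquiv.toRingHom σ.surjective σ.toRingEquiv.toAddEquiv
        (fun r z => map_mul σ r z)).le
    · push Not at hm
      obtain ⟨i, hi⟩ := hm
      exact powMap_bij_of_isUnit _ (i := i)
        (IsLocalization.map_units (Localization.AtPrime m) (⟨f i, hi⟩ : m.primeCompl)) n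
  have hinj : Function.Injective (powMap f n A) := by
    refine (injective_iff_map_eq_zero _).2 fun a ha => ?_
    by_contra hne
    obtain ⟨m, hm, hle⟩ := Ideal.exists_le_maximal (Submodule.colon (⊥ : Submodule A A) {a}) fun ht => hne (by
      have h1 : (1 : A) ∈ Submodule.colon (⊥ : Submodule A A) {a} := ht ▸ trivial
      simpa [Submodule.mem_colon_singleton] using h1)
    have h0 : algebraMap A (Localization.AtPrime m) a = 0 :=
      (hloc m).1 (funext fun i => by
        have := congrArg (algebraMap A (Localization.AtPrime m)) (congrFun ha i)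
        simpa using this)
    obtain ⟨s, hs⟩ := (IsLocalization.map_eq_zero_iff m.primeCompl (Localization.AtPrime m) a).1 h0
    exact s.2 (hle (Submodule.mem_colon_singleton.2 (by simpa [mul_comm] using hs)))
  refine ⟨hinj, fun a => ⟨fun ha => ?_, ?_⟩⟩
  · by_contra hne
    obtain ⟨m, hm, hle⟩ := Ideal.exists_le_maximal
      (Submodule.colon (LinearMap.range (powMap f n A)) {a}) fun ht => hne (by
        have h1 : (1 : A) ∈ Submodule.colon (LinearMap.range (powMap f n A)) {a} := ht ▸ trivial
        simpa [Submodule.mem_colon_singleton] using h1)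
    obtain ⟨x, hx⟩ := ((hloc m).2 fun i => algebraMap A (Localization.AtPrime m) (a i)).1 (funext fun p => by
      have := congrArg (algebraMap A (Localization.AtPrime m)) (congrFun ha p)
      simpa using this)
    obtain ⟨⟨y, s⟩, hy⟩ := IsLocalization.surj m.primeCompl x
    have hi : ∀ i, ∃ t : m.primeCompl, (t : A) * (f i ^ n * y) = t * (s * a i) := fun i =>
      (IsLocalization.eq_iff_exists m.primeCompl (Localization.AtPrime m)).1 (by
        have e : algebraMap A (Localization.AtPrime m) (f i) ^ n * x = algebraMap A (Localization.AtPrime m) (a i) :=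
          congrFun hx i
        rw [map_mul, map_mul, map_pow, ← e, ← hy]
        ring)
    choose t ht using hi
    let T : m.primeCompl := ∏ i, t i
    refine (T * s).2 (hle (Submodule.mem_colon_singleton.2 ⟨(T : A) * y, funext fun i => ?_⟩))
    obtain ⟨c, hc⟩ : ∃ c : A, (T : A) = c * t i :=
      ⟨(∏ j ∈ Finset.univ.erase i, t j : m.primeCompl), by
        rw [← Submonoid.coe_mul, Finset.prod_erase_mul _ _ (Finset.mem_univ i)]⟩
    simp only [powMap_apply, Submonoid.coe_mul, Pi.smul_apply, smul_eq_mul, hc]
    linear_combination c * ht i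
  · rintro ⟨x, rfl⟩
    funext p
    simp only [relMap_apply, powMap_apply, smul_smul, mul_comm, sub_self, Pi.zero_apply]

end Groth.Agent.FlatHartogs
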