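import Groth.Agent.FlatHartogs.Main
import Groth.Agent.FlatHartogs.Local
import Groth.Agent.Lib.CurveDeg
import Groth.Agent.H23.Seesaw
import Groth.Agent.QCoh.LocFree

/-!
# Morphisms from flat schemes to affine schemes extend across depth two
-/

set_option backward.isDefEq.respectTransparency false
set_option backward.isDefEq.respectTransparency.types false
set_option maxHeartbeats 800000

universe u

open CategoryTheory CategoryTheory.Limits AlgebraicGeometry TopologicalSpace Opposite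

namespace Groth.Agent.FlatHartogs

variable {X : Scheme.{u}} (U : X.Opens)

/-- The hypothesis: outside `U` the local rings are regular of dimension at least two. -/
def RegularOff : Prop :=
  ∀ z : X, z ∉ U → IsRegularLocalRing (X.presheaf.stalk z) ∧ (2 : WithBot ℕ∞) ≤ ringKrullDim (X.presheaf.stalk z)

theorem exists_cover_qc [QuasiCompact U.ι] {W₀ : X.Opens} (hW₀ : IsAffineOpen W₀) :
    ∃ (n : ℕ) (g : Fin n → Γ(X, W₀)), (∀ i, X.basicOpen (g i) ≤ W₀ ⊓ U) ∧
      ∀ x ∈ W₀ ⊓ U, ∃ i, x ∈ X.basicOpen (g i) := by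
  classical
  have hc : IsCompact ((W₀ ⊓ U : X.Opens) : Set X) := by
    have h := (U.ι.isCompact_preimage hW₀.isCompact).image U.ι.continuous
    rwa [Scheme.Hom.coe_preimage, Set.image_preimage_eq_inter_range, Scheme.Opens.range_ι] at h
  choose g hg hx using fun x : (W₀ ⊓ U : X.Opens) => hW₀.exists_basicOpen_le (V := W₀ ⊓ U) ⟨x.1, x.2⟩ x.2.1
  obtain ⟨t, ht⟩ := hc.elim_finite_subcover (fun x : (W₀ ⊓ U : X.Opens) => (X.basicOpen (g x) : Set X))
    (fun x => (X.basicOpen _).isOpen) fun x hxm => Set.mem_iUnion.2 ⟨⟨x, hxm⟩, hx ⟨x, hxm⟩⟩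
  refine ⟨t.card, fun i => g (t.equivFin.symm i).1, fun i => hg _, fun x hxm => ?_⟩
  obtain ⟨y, hy, hxy⟩ := Set.mem_iUnion₂.1 (ht hxm)
  exact ⟨t.equivFin ⟨y, hy⟩, by simp only [Equiv.symm_apply_apply]; exact hxy⟩

theorem sections_bijective [QuasiCompact U.ι] (hU : RegularOff U) {Y : Scheme.{u}} (f : Y ⟶ X) [Flat f]
    {W : X.Opens} (hW : IsAffineOpen W) {V : Y.Opens} (hV : IsAffineOpen V) (hle : V ≤ f ⁻¹ᵁ W) :
    Function.Bijective (Y.presheaf.map (homOfLE (inf_le_left : V ⊓ f ⁻¹ᵁ U ≤ V)).op) := by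
  obtain ⟨n, g, hg, hg'⟩ := exists_cover_qc U hW
  obtain ⟨hc, hc'⟩ := cover_appLE f U hle hg hg'
  have hreg : ∀ k, Function.Injective (powMap g k Γ(X, W)) ∧
      Function.Exact (powMap g k Γ(X, W)) (relMap g k Γ(X, W)) := fun k => powMap_bij_of_regular g (fun p hp => by
    obtain ⟨x, hx, hpx⟩ := QCoh.exists_point hW p
    have hxU : x ∉ U := fun h => by
      obtain ⟨i, hi⟩ := hg' x ⟨hx, h⟩
      exact (QCoh.mem_basicOpen_iff_notMem hW hx (g i)).1 hi (hpx ▸ hp i)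
    subst hpx
    letI := QCoh.stalkAlg (X := X) hx
    haveI := QCoh.isLocalization_stalk' hW hx
    let σ : X.presheaf.stalk x ≃ₐ[Γ(X, W)] Localization.AtPrime (hW.primeIdealOf ⟨x, hx⟩).asIdeal :=
      IsLocalization.algEquiv (hW.primeIdealOf ⟨x, hx⟩).asIdeal.primeCompl _ _
    haveI := (hU x hxU).1
    exact ⟨IsRegularLocalRing.of_ringEquiv σ.toRingEquiv,
      (ringKrullDim_eq_of_ringEquiv σ.toRingEquiv) ▸ (hU x hxU).2⟩) k
  have hq : Coh.IsQCoh (Coh.structureModule Y) := QCoh.isQCoh_of_isFinLocFree fun x =>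
    let ⟨O, hx, e⟩ := InvEnd.isFinLocFreeOfRank_one InvX.isInvertible_structureModule x
    ⟨O, 1, hx, e⟩
  have hflat := (QCoh.flat_appLE_iff f hq hV hW hle).2 fun x _ =>
    H23.Seesaw.isFlatOver_of_isInvertible f InvX.isInvertible_structureModule x
  exact ⟨sect_injective (M := Coh.structureModule Y) inf_le_left _ g hc hq hV hflat fun k => (hreg k).1,
    sect_surjective (M := Coh.structureModule Y) inf_le_left _ g hc hc' hq hV hflat fun k => (hreg k).2⟩

theorem homOfLE_appTop_bijective {Y : Scheme.{u}} {V' V : Y.Opens} (e : V' ≤ V)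
    (h : Function.Bijective (Y.presheaf.map (homOfLE e).op)) : Function.Bijective (Y.homOfLE e).appTop := by
  haveI : IsIso (Y.presheaf.map (homOfLE e).op) := (ConcreteCategory.isIso_iff_bijective _).2 h
  have hsq : (Y.homOfLE e).appTop ≫ V'.topIso.hom = V.topIso.hom ≫ Y.presheaf.map (homOfLE e).op := by
    simp [← Functor.map_comp]
  haveI : IsIso ((Y.homOfLE e).appTop) := by
    rw [← Iso.eq_comp_inv] at hsq
    rw [hsq]
    infer_instance
  exact ConcreteCategory.bijective_of_isIso _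

section Local

variable {Y Z : Scheme.{u}} [IsAffine Z] {V' V : Y.Opens} (e : V' ≤ V)

theorem affine_hom_ext (h : Function.Injective (Y.homOfLE e).appTop) {l l' : V.toScheme ⟶ Z}
    (hl : Y.homOfLE e ≫ l = Y.homOfLE e ≫ l') : l = l' := by
  refine ext_of_isAffine ?_
  ext s
  exact h (by
    have := congrArg (fun q => q.appTop s) hl
    simpa using this)

theorem affine_hom_exists (h : Function.Bijective (Y.homOfLE e).appTop) (l : V'.toScheme ⟶ Z) :
    ∃ m : V.toScheme ⟶ Z, Y.homOfLE e ≫ m = l := by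
  haveI : IsIso (Y.homOfLE e).appTop := (ConcreteCategory.isIso_iff_bijective _).2 h
  refine ⟨V.toScheme.toSpecΓ ≫ Spec.map (l.appTop ≫ inv (Y.homOfLE e).appTop) ≫ Z.isoSpec.inv, ?_⟩
  rw [Scheme.toSpecΓ_naturality_assoc, ← Spec.map_comp_assoc, Category.assoc, IsIso.inv_hom_id, Category.comp_id,
    ← Scheme.toSpecΓ_naturality_assoc, Scheme.toSpecΓ_isoSpec_inv, Category.comp_id]

end Local

section Global

variable [QuasiCompact U.ι] (hU : RegularOff U) {T : Over X} [IsAffineHom T.hom]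

include hU

/-- Local uniqueness. -/
theorem ext_small {Y : Scheme.{u}} (f : Y ⟶ X) [Flat f] {W : X.Opens} (hW : IsAffineOpen W) {V : Y.Opens}
    (hV : IsAffineOpen V) (hle : V ≤ f ⁻¹ᵁ W) {m m' : V.toScheme ⟶ T.left} (hm : m ≫ T.hom = V.ι ≫ f)
    (hm' : m' ≫ T.hom = V.ι ≫ f)
    (h : Y.homOfLE (inf_le_left : V ⊓ f ⁻¹ᵁ U ≤ V) ≫ m = Y.homOfLE (inf_le_left : V ⊓ f ⁻¹ᵁ U ≤ V) ≫ m') :
    m = m' := by
  haveI : IsAffine (T.hom ⁻¹ᵁ W).toScheme := hW.preimage T.hom
  have hr : ∀ q : V.toScheme ⟶ T.left, q ≫ T.hom = V.ι ≫ f → Set.range q ⊆ Set.range (T.hom ⁻¹ᵁ W).ι := by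
    intro q hq
    rw [Scheme.Opens.range_ι]
    rintro _ ⟨z, rfl⟩
    show T.hom (q z) ∈ W
    rw [← Scheme.Hom.comp_apply, hq, Scheme.Hom.comp_apply]
    exact hle z.2
  let l := IsOpenImmersion.lift _ m (hr m hm)
  let l' := IsOpenImmersion.lift _ m' (hr m' hm')
  have hl : l ≫ (T.hom ⁻¹ᵁ W).ι = m := IsOpenImmersion.lift_fac _ _ _
  have hl' : l' ≫ (T.hom ⁻¹ᵁ W).ι = m' := IsOpenImmersion.lift_fac _ _ _
  rw [← hl, ← hl', affine_hom_ext (inf_le_left : V ⊓ f ⁻¹ᵁ U ≤ V)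
    (homOfLE_appTop_bijective _ (sections_bijective U hU f hW hV hle)).1 (l := l) (l' := l') (by
      rw [← cancel_mono (T.hom ⁻¹ᵁ W).ι, Category.assoc, Category.assoc, hl, hl', h])]

/-- Morphisms over `X` from a flat scheme to an affine one are determined over `U`. -/
theorem ext_hom {Y : Over X} [Flat Y.hom] {m m' : Y ⟶ T}
    (h : pullback.fst Y.hom U.ι ≫ m.left = pullback.fst Y.hom U.ι ≫ m'.left) : m = m' := by
  choose W V hW hV hxV _ hle using fun y : Y.left => exists_small Y.hom ⊤ (x := y) trivial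
  refine Over.OverMorphism.ext (Scheme.Cover.hom_ext
    (Y.left.openCoverOfIsOpenCover V (top_le_iff.1 fun y _ => Opens.mem_iSup.2 ⟨y, hxV y⟩)) _ _ fun y => ?_)
  change (V y).ι ≫ m.left = (V y).ι ≫ m'.left
  refine ext_small U hU Y.hom (hW y) (hV y) (hle y) (by rw [Category.assoc, Over.w m])
    (by rw [Category.assoc, Over.w m']) ?_
  rw [Scheme.homOfLE_ι_assoc, Scheme.homOfLE_ι_assoc]
  have hr : Set.range (V y ⊓ Y.hom ⁻¹ᵁ U).ι ⊆ Set.range (pullback.fst Y.hom U.ι) := by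
    rw [IsOpenImmersion.range_pullbackFst, Scheme.Opens.range_ι]
    exact fun z hz => ⟨⟨_, hz.2⟩, rfl⟩
  rw [← IsOpenImmersion.lift_fac _ _ hr, Category.assoc, Category.assoc, h]

/-- Morphisms over `X` into an affine scheme extend from `U`. -/
theorem exists_hom_ext {Y : Over X} [Flat Y.hom] (k : pullback Y.hom U.ι ⟶ T.left)
    (hk : k ≫ T.hom = pullback.fst Y.hom U.ι ≫ Y.hom) :
    ∃ m : Y ⟶ T, pullback.fst Y.hom U.ι ≫ m.left = k := by
  choose W V hW hV hxV _ hle using fun y : Y.left => exists_small Y.hom ⊤ (x := y) trivial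
  have hr : ∀ O : Y.left.Opens, Set.range (O ⊓ Y.hom ⁻¹ᵁ U).ι ⊆ Set.range (pullback.fst Y.hom U.ι) := fun O => by
    rw [IsOpenImmersion.range_pullbackFst, Scheme.Opens.range_ι]
    exact fun z hz => ⟨⟨_, hz.2⟩, rfl⟩
  let kO : ∀ O : Y.left.Opens, (O ⊓ Y.hom ⁻¹ᵁ U).toScheme ⟶ T.left := fun O =>
    IsOpenImmersion.lift (pullback.fst Y.hom U.ι) _ (hr O) ≫ k
  have hkO : ∀ O : Y.left.Opens, kO O ≫ T.hom = (O ⊓ Y.hom ⁻¹ᵁ U).ι ≫ Y.hom := fun O => by
    simp only [kO, Category.assoc, hk]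
    rw [← Category.assoc, IsOpenImmersion.lift_fac]
  have hex : ∀ y, ∃ m : (V y).toScheme ⟶ T.left, m ≫ T.hom = (V y).ι ≫ Y.hom ∧
      Y.left.homOfLE (inf_le_left : V y ⊓ Y.hom ⁻¹ᵁ U ≤ V y) ≫ m = kO (V y) := fun y => by
    haveI : IsAffine (T.hom ⁻¹ᵁ W y).toScheme := (hW y).preimage T.hom
    haveI : IsAffine (W y).toScheme := hW y
    have hrk : Set.range (kO (V y)) ⊆ Set.range (T.hom ⁻¹ᵁ W y).ι := by
      rw [Scheme.Opens.range_ι]
      rintro _ ⟨z, rfl⟩
      show T.hom (kO (V y) z) ∈ W y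
      rw [← Scheme.Hom.comp_apply, hkO, Scheme.Hom.comp_apply]
      exact hle y z.2.1
    have hb := homOfLE_appTop_bijective _ (sections_bijective U hU Y.hom (hW y) (hV y) (hle y))
    obtain ⟨m, hm⟩ := affine_hom_exists (inf_le_left : V y ⊓ Y.hom ⁻¹ᵁ U ≤ V y) hb
      (IsOpenImmersion.lift _ (kO (V y)) hrk)
    refine ⟨m ≫ (T.hom ⁻¹ᵁ W y).ι, ?_, by rw [reassoc_of% hm, IsOpenImmersion.lift_fac]⟩
    have hrV : Set.range ((V y).ι ≫ Y.hom) ⊆ Set.range (W y).ι := by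
      rw [Scheme.Opens.range_ι]
      rintro _ ⟨z, rfl⟩
      rw [Scheme.Hom.comp_apply]
      exact hle y z.2
    let l' := IsOpenImmersion.lift _ _ hrV
    have hl' : l' ≫ (W y).ι = (V y).ι ≫ Y.hom := IsOpenImmersion.lift_fac _ _ _
    rw [← hl', Category.assoc, ← morphismRestrict_ι, ← Category.assoc]
    refine congrArg (· ≫ (W y).ι) (affine_hom_ext (inf_le_left : V y ⊓ Y.hom ⁻¹ᵁ U ≤ V y) hb.1 ?_)
    rw [← cancel_mono (W y).ι]
    simp only [Category.assoc, morphismRestrict_ι, hl', reassoc_of% hm]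
    rw [IsOpenImmersion.lift_fac_assoc, hkO, Scheme.homOfLE_ι_assoc]
  choose m hmT hmU using hex
  let 𝒰 := Y.left.openCoverOfIsOpenCover V (top_le_iff.1 fun y _ => Opens.mem_iSup.2 ⟨y, hxV y⟩)
  have hcompat : ∀ y y', pullback.fst (𝒰.f y) (𝒰.f y') ≫ m y = pullback.snd (𝒰.f y) (𝒰.f y') ≫ m y' := fun y y' => by
    let P : Over X := Over.mk (pullback.fst (𝒰.f y) (𝒰.f y') ≫ 𝒰.f y ≫ Y.hom)
    haveI : Flat P.hom := inferInstanceAs (Flat (pullback.fst (𝒰.f y) (𝒰.f y') ≫ (V y).ι ≫ Y.hom))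
    let a : P ⟶ T := Over.homMk (pullback.fst (𝒰.f y) (𝒰.f y') ≫ m y) (by
      rw [Category.assoc, hmT]; rfl)
    let b : P ⟶ T := Over.homMk (pullback.snd (𝒰.f y) (𝒰.f y') ≫ m y') (by
      rw [Category.assoc, hmT, ← Category.assoc]
      exact (congrArg (· ≫ Y.hom) pullback.condition.symm).trans (Category.assoc _ _ _))
    suffices a = b from congrArg CommaMorphism.left this
    refine ext_hom U hU ?_
    have hq : ∀ (z : Y.left), pullback.fst P.hom U.ι ≫ pullback.fst (𝒰.f y) (𝒰.f y') ≫ 𝒰.f y =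
        pullback.fst P.hom U.ι ≫ pullback.snd (𝒰.f y) (𝒰.f y') ≫ 𝒰.f y' := fun _ => by rw [pullback.condition]
    have key : ∀ (i : Y.left) (q : pullback P.hom U.ι ⟶ (V i).toScheme),
        (hqi : q ≫ (V i).ι ≫ Y.hom = pullback.snd P.hom U.ι ≫ U.ι) →
        q ≫ m i = pullback.lift (q ≫ (V i).ι) (pullback.snd P.hom U.ι) ((Category.assoc _ _ _).trans hqi) ≫ k := by
      intro i q hqi
      have hr' : Set.range q ⊆ Set.range (Y.left.homOfLE (inf_le_left : V i ⊓ Y.hom ⁻¹ᵁ U ≤ V i)) := by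
        rintro _ ⟨z, rfl⟩
        have hz : (V i).ι (q z) ∈ Y.hom ⁻¹ᵁ U := by
          show Y.hom ((V i).ι (q z)) ∈ U
          rw [← Scheme.Hom.comp_apply, ← Scheme.Hom.comp_apply, hqi, Scheme.Hom.comp_apply]
          exact (pullback.snd P.hom U.ι z).2
        refine ⟨⟨_, (q z).2, hz⟩, ?_⟩
        apply (V i).ι.isOpenEmbedding.injective
        rw [← Scheme.Hom.comp_apply, Scheme.homOfLE_ι]
        rfl
      conv_lhs => rw [← IsOpenImmersion.lift_fac _ q hr', Category.assoc, hmU]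
      simp only [kO, ← Category.assoc]
      congr 1
      rw [← cancel_mono (pullback.fst Y.hom U.ι), pullback.lift_fst]
      simp only [Category.assoc, IsOpenImmersion.lift_fac]
      rw [← Scheme.homOfLE_ι Y.left (inf_le_left : V i ⊓ Y.hom ⁻¹ᵁ U ≤ V i), IsOpenImmersion.lift_fac_assoc]
    change pullback.fst P.hom U.ι ≫ pullback.fst (𝒰.f y) (𝒰.f y') ≫ m y =
      pullback.fst P.hom U.ι ≫ pullback.snd (𝒰.f y) (𝒰.f y') ≫ m y'
    have hP : pullback.fst P.hom U.ι ≫ pullback.fst (𝒰.f y) (𝒰.f y') ≫ (V y).ι ≫ Y.hom =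
        pullback.snd P.hom U.ι ≫ U.ι := pullback.condition
    have h1 := key y (pullback.fst P.hom U.ι ≫ pullback.fst (𝒰.f y) (𝒰.f y')) (by simpa using hP)
    have h2 := key y' (pullback.fst P.hom U.ι ≫ pullback.snd (𝒰.f y) (𝒰.f y')) (by
      rw [← hP, Category.assoc]
      exact congrArg (pullback.fst P.hom U.ι ≫ ·) ((Category.assoc _ _ _).symm.trans
        ((congrArg (· ≫ Y.hom) pullback.condition.symm).trans (Category.assoc _ _ _))))
    simp only [Category.assoc] at h1 h2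
    rw [h1, h2]
    congr 1
    apply pullback.hom_ext
    · rw [pullback.lift_fst, pullback.lift_fst]
      exact hq y
    · rw [pullback.lift_snd, pullback.lift_snd]
  let M := 𝒰.glueMorphisms m hcompat
  have hMg : ∀ y, (V y).ι ≫ M = m y := fun y => Scheme.Cover.ι_glueMorphisms 𝒰 m hcompat y
  refine ⟨Over.homMk M (𝒰.hom_ext _ _ fun y => by
    change (V y).ι ≫ M ≫ T.hom = (V y).ι ≫ Y.hom
    rw [reassoc_of% hMg y, hmT]), ?_⟩
  refine Scheme.Cover.hom_ext (𝒰.pullback₁ (pullback.fst Y.hom U.ι)) _ _ fun (y : Y.left) => ?_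
  change pullback.fst (pullback.fst Y.hom U.ι) (V y).ι ≫ pullback.fst Y.hom U.ι ≫ M =
    pullback.fst (pullback.fst Y.hom U.ι) (V y).ι ≫ k
  rw [← Category.assoc, pullback.condition, Category.assoc, hMg]
  have hr' : Set.range (pullback.snd (pullback.fst Y.hom U.ι) (V y).ι) ⊆
      Set.range (Y.left.homOfLE (inf_le_left : V y ⊓ Y.hom ⁻¹ᵁ U ≤ V y)) := by
    rintro _ ⟨z, rfl⟩
    have hz : (V y).ι (pullback.snd (pullback.fst Y.hom U.ι) (V y).ι z) ∈ Y.hom ⁻¹ᵁ U := by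
      show Y.hom _ ∈ U
      have e : pullback.snd (pullback.fst Y.hom U.ι) (V y).ι ≫ (V y).ι ≫ Y.hom =
          pullback.fst (pullback.fst Y.hom U.ι) (V y).ι ≫ pullback.snd Y.hom U.ι ≫ U.ι := by
        rw [← pullback.condition_assoc, pullback.condition]
      rw [← Scheme.Hom.comp_apply, ← Scheme.Hom.comp_apply, e, Scheme.Hom.comp_apply, Scheme.Hom.comp_apply]
      exact Subtype.prop _
    refine ⟨⟨_, (pullback.snd (pullback.fst Y.hom U.ι) (V y).ι z).2, hz⟩, ?_⟩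
    apply (V y).ι.isOpenEmbedding.injective
    rw [← Scheme.Hom.comp_apply, Scheme.homOfLE_ι]
    rfl
  rw [← IsOpenImmersion.lift_fac _ _ hr', Category.assoc, hmU]
  simp only [kO, ← Category.assoc]
  congr 1
  rw [← cancel_mono (pullback.fst Y.hom U.ι)]
  simp only [Category.assoc, IsOpenImmersion.lift_fac]
  rw [pullback.condition, ← Scheme.homOfLE_ι Y.left (inf_le_left : V y ⊓ Y.hom ⁻¹ᵁ U ≤ V y),
    IsOpenImmersion.lift_fac_assoc]

end Global

end Groth.Agent.FlatHartogs
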