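import Groth.Agent.FlatHartogs.Scheme
import Groth.Agent.QCoh.FlatOver
import Mathlib.AlgebraicGeometry.Noetherian

/-!
# Sections of modules flat over a locally Noetherian base
-/

set_option backward.isDefEq.respectTransparency false
set_option backward.isDefEq.respectTransparency.types false

universe u

open CategoryTheory AlgebraicGeometry TopologicalSpace Opposite

namespace Groth.Agent.FlatHartogs

variable {S X : Scheme.{u}} (f : X ⟶ S) (U : S.Opens) {M : X.Modules}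

/-- A finite family of functions whose basic opens cover the trace of an open. -/
theorem exists_cover [IsLocallyNoetherian S] {W₀ : S.Opens} (hW₀ : IsAffineOpen W₀) :
    ∃ (n : ℕ) (g : Fin n → Γ(S, W₀)), (∀ i, S.basicOpen (g i) ≤ W₀ ⊓ U) ∧
      ∀ x ∈ W₀ ⊓ U, ∃ i, x ∈ S.basicOpen (g i) := by
  classical
  haveI := IsLocallyNoetherian.component_noetherian (X := S) ⟨W₀, hW₀⟩
  have hN : NoetherianSpace ↥(W₀ : Set S) := noetherianSpace_of_isAffineOpen W₀ hW₀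
  have hc : IsCompact ((W₀ ⊓ U : S.Opens) : Set S) := by
    rw [Opens.coe_inf, ← Subtype.image_preimage_coe (W₀ : Set S) (U : Set S)]
    exact (@TopologicalSpace.NoetherianSpace.isCompact _ _ hN _).image continuous_subtype_val
  choose g hg hx using fun x : (W₀ ⊓ U : S.Opens) => hW₀.exists_basicOpen_le (V := W₀ ⊓ U) ⟨x.1, x.2⟩ x.2.1
  obtain ⟨t, ht⟩ := hc.elim_finite_subcover (fun x : (W₀ ⊓ U : S.Opens) => (S.basicOpen (g x) : Set S))
    (fun x => (S.basicOpen _).isOpen) fun x hxm => Set.mem_iUnion.2 ⟨⟨x, hxm⟩, hx ⟨x, hxm⟩⟩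
  refine ⟨t.card, fun i => g (t.equivFin.symm i).1, fun i => hg _, fun x hxm => ?_⟩
  obtain ⟨y, hy, hxy⟩ := Set.mem_iUnion₂.1 (ht hxm)
  exact ⟨t.equivFin ⟨y, hy⟩, by simp only [Equiv.symm_apply_apply]; exact hxy⟩

theorem exists_small (O : X.Opens) {x : X} (hx : x ∈ O) :
    ∃ (W₀ : S.Opens) (W : X.Opens), IsAffineOpen W₀ ∧ IsAffineOpen W ∧ x ∈ W ∧ W ≤ O ∧ W ≤ f ⁻¹ᵁ W₀ := by
  obtain ⟨_, ⟨W₀, hW₀, rfl⟩, hx₀, -⟩ :=
    S.isBasis_affineOpens.exists_subset_of_mem_open (Set.mem_univ (f.base x)) isOpen_univ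
  obtain ⟨_, ⟨W, hW, rfl⟩, hxW, hle⟩ :=
    X.isBasis_affineOpens.exists_subset_of_mem_open (show x ∈ ((O ⊓ f ⁻¹ᵁ W₀ : X.Opens) : Set X) from ⟨hx, hx₀⟩)
      (O ⊓ f ⁻¹ᵁ W₀).isOpen
  exact ⟨W₀, W, hW₀, hW, hxW, fun y hy => (hle hy).1, fun y hy => (hle hy).2⟩

theorem cover_appLE {W₀ : S.Opens} {W : X.Opens} (hle : W ≤ f ⁻¹ᵁ W₀) {n : ℕ} {g : Fin n → Γ(S, W₀)}
    (hg : ∀ i, S.basicOpen (g i) ≤ W₀ ⊓ U) (hg' : ∀ x ∈ W₀ ⊓ U, ∃ i, x ∈ S.basicOpen (g i)) :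
    (∀ i, X.basicOpen ((f.appLE W₀ W hle).hom (g i)) ≤ W ⊓ f ⁻¹ᵁ U) ∧
      ∀ x ∈ W ⊓ f ⁻¹ᵁ U, ∃ i, x ∈ X.basicOpen ((f.appLE W₀ W hle).hom (g i)) := by
  refine ⟨fun i => ?_, fun x hx => ?_⟩
  · rw [Scheme.basicOpen_appLE]
    exact inf_le_inf_left _ (f.preimage_mono ((hg i).trans inf_le_right))
  · obtain ⟨i, hi⟩ := hg' (f.base x) ⟨hle hx.1, hx.2⟩
    exact ⟨i, by rw [Scheme.basicOpen_appLE]; exact ⟨hx.1, hi⟩⟩

theorem injective_of_flat [IsLocallyNoetherian S] (hM : Coh.IsQCoh M) (hfl : FlatMod.IsFlatOver f M)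
    (h : ∀ W₀ : S.Opens, IsAffineOpen W₀ →
      Function.Injective (S.presheaf.map (homOfLE (inf_le_left : W₀ ⊓ U ≤ W₀)).op))
    (O : X.Opens) :
    Function.Injective (M.presheaf.map (homOfLE (inf_le_left : O ⊓ f ⁻¹ᵁ U ≤ O)).op) := by
  refine injective_of_locally (f ⁻¹ᵁ U) (fun O x hx => ?_) O
  obtain ⟨W₀, W, hW₀, hW, hxW, hWO, hle⟩ := exists_small f O hx
  obtain ⟨n, g, hg, hg'⟩ := exists_cover U hW₀
  obtain ⟨hc, hc'⟩ := cover_appLE f U hle hg hg'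
  exact ⟨W, hxW, hWO, sect_injective inf_le_left _ g hc hM hW
    ((QCoh.flat_appLE_iff f hM hW hW₀ hle).2 fun x _ => hfl x)
    fun k => powMap_injective inf_le_left g hg' (h W₀ hW₀) k⟩

theorem bijective_of_flat [IsLocallyNoetherian S] (hM : Coh.IsQCoh M) (hfl : FlatMod.IsFlatOver f M)
    (h : ∀ W₀ : S.Opens, IsAffineOpen W₀ →
      Function.Bijective (S.presheaf.map (homOfLE (inf_le_left : W₀ ⊓ U ≤ W₀)).op))
    (O : X.Opens) :
    Function.Bijective (M.presheaf.map (homOfLE (inf_le_left : O ⊓ f ⁻¹ᵁ U ≤ O)).op) := by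
  refine bijective_of_locally (f ⁻¹ᵁ U) (fun O x hx => ?_) O
  obtain ⟨W₀, W, hW₀, hW, hxW, hWO, hle⟩ := exists_small f O hx
  obtain ⟨n, g, hg, hg'⟩ := exists_cover U hW₀
  obtain ⟨hc, hc'⟩ := cover_appLE f U hle hg hg'
  have hflat := (QCoh.flat_appLE_iff f hM hW hW₀ hle).2 fun x _ => hfl x
  exact ⟨W, hxW, hWO, sect_injective inf_le_left _ g hc hM hW hflat
    (fun k => powMap_injective inf_le_left g hg' (h W₀ hW₀).1 k),
    sect_surjective inf_le_left _ g hc hc' hM hW hflat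
    fun k => powMap_exact inf_le_left g hg hg' (h W₀ hW₀) k⟩

end Groth.Agent.FlatHartogs
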