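import Groth.Agent.FlatHartogs.Algebra
import Groth.Agent.QCoh.Stalk
import Groth.Agent.QCoh.Sections
import Groth.Agent.QCoh.Localize

/-!
# Extension of sections of quasi-coherent modules flat over a base
-/

set_option backward.isDefEq.respectTransparency false
set_option backward.isDefEq.respectTransparency.types false

universe u

open CategoryTheory AlgebraicGeometry TopologicalSpace Opposite

namespace Groth.Agent.FlatHartogs

open Groth.Agent.QCoh

theorem res_res {S : Scheme.{u}} {U V W : S.Opens} (a : V ≤ U) (b : W ≤ V) (x : Γ(S, U)) :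
    S.presheaf.map (homOfLE b).op (S.presheaf.map (homOfLE a).op x) =
      S.presheaf.map (homOfLE (b.trans a)).op x := by
  rw [← ConcreteCategory.comp_apply, ← Functor.map_comp]; rfl

theorem res_resM {S : Scheme.{u}} {M : S.Modules} {U V W : S.Opens} (a : V ≤ U) (b : W ≤ V) (x : Γ(M, U)) :
    M.presheaf.map (homOfLE b).op (M.presheaf.map (homOfLE a).op x) =
      M.presheaf.map (homOfLE (b.trans a)).op x := by
  rw [← ConcreteCategory.comp_apply, ← Functor.map_comp]; rfl

section Functions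

variable {S : Scheme.{u}} {W O : S.Opens} (hOW : O ≤ W) {ι : Type} (f : ι → Γ(S, W))
  (hcov : ∀ i, S.basicOpen (f i) ≤ O) (hcov' : ∀ x ∈ O, ∃ i, x ∈ S.basicOpen (f i))

include hcov' in
theorem res_eq_zero_of_pow_mul (n : ℕ) (a : Γ(S, W)) (h : ∀ i, f i ^ n * a = 0) :
    S.presheaf.map (homOfLE hOW).op a = 0 := by
  refine TopCat.Sheaf.eq_of_locally_eq' S.sheaf (fun p : O => O ⊓ S.basicOpen (f (hcov' p.1 p.2).choose)) O
    (fun p => homOfLE inf_le_left) (fun p hp => Opens.mem_iSup.2 ⟨⟨p, hp⟩, hp, (hcov' p hp).choose_spec⟩) _ _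
    fun p => ?_
  show S.presheaf.map (homOfLE inf_le_left).op (S.presheaf.map (homOfLE hOW).op a) = S.presheaf.map _ 0
  rw [map_zero]
  change (S.presheaf.map (homOfLE hOW).op ≫ S.presheaf.map (homOfLE inf_le_left).op).hom a = 0
  rw [← Functor.map_comp]
  set i := (hcov' p.1 p.2).choose
  have hle : O ⊓ S.basicOpen (f i) ≤ S.basicOpen (f i) := inf_le_right
  have hu : IsUnit (S.presheaf.map (homOfLE ((inf_le_left : O ⊓ S.basicOpen (f i) ≤ O).trans hOW)).op (f i)) := by
    have := (RingedSpace.isUnit_res_basicOpen S.toRingedSpace (f i)).map (S.presheaf.map (homOfLE hle).op).hom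
    change IsUnit ((S.presheaf.map (homOfLE (S.basicOpen_le (f i))).op ≫ S.presheaf.map (homOfLE hle).op).hom (f i))
      at this
    rwa [← Functor.map_comp] at this
  have h0 := congrArg (S.presheaf.map (homOfLE ((inf_le_left : O ⊓ S.basicOpen (f i) ≤ O).trans hOW)).op) (h i)
  rw [map_mul, map_pow, map_zero] at h0
  exact (hu.pow n).mul_right_eq_zero.1 h0

variable [Fintype ι]

include hcov' in
theorem powMap_injective (hinj : Function.Injective (S.presheaf.map (homOfLE hOW).op)) (n : ℕ) :
    Function.Injective (powMap f n Γ(S, W)) := by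
  refine (injective_iff_map_eq_zero _).2 fun a ha => hinj ?_
  rw [map_zero]
  exact res_eq_zero_of_pow_mul hOW f hcov' n a fun i => by simpa using congrFun ha i

include hcov hcov' in
theorem powMap_exact (hbij : Function.Bijective (S.presheaf.map (homOfLE hOW).op)) (n : ℕ) :
    Function.Exact (powMap f n Γ(S, W)) (relMap f n Γ(S, W)) := by
  intro a
  constructor
  · intro ha
    have ha' : ∀ i j, f j ^ n * a i = f i ^ n * a j := fun i j => sub_eq_zero.1 (by simpa using congrFun ha (i, j))
    have hu : ∀ i, IsUnit (S.presheaf.map (homOfLE (S.basicOpen_le (f i))).op (f i)) := fun i =>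
      RingedSpace.isUnit_res_basicOpen S.toRingedSpace (f i)
    let s : ∀ i, Γ(S, S.basicOpen (f i)) := fun i =>
      ↑((hu i).pow n).unit⁻¹ * S.presheaf.map (homOfLE (S.basicOpen_le (f i))).op (a i)
    have hs : ∀ i (P : S.Opens) (hP : P ≤ S.basicOpen (f i)),
        S.presheaf.map (homOfLE (hP.trans (S.basicOpen_le (f i)))).op (f i) ^ n * S.presheaf.map (homOfLE hP).op (s i)
          = S.presheaf.map (homOfLE (hP.trans (S.basicOpen_le (f i)))).op (a i) := fun i P hP => by
      have e : S.presheaf.map (homOfLE (S.basicOpen_le (f i))).op (f i) ^ n * s i =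
          S.presheaf.map (homOfLE (S.basicOpen_le (f i))).op (a i) := by
        simp only [s, ← mul_assoc]
        rw [IsUnit.mul_val_inv, one_mul]
      have := congrArg (S.presheaf.map (homOfLE hP).op) e
      rw [map_mul, map_pow] at this
      simpa only [res_res] using this
    have hcomp : TopCat.Presheaf.IsCompatible S.sheaf.1 (fun i => S.basicOpen (f i)) s := by
      intro i j
      let P := S.basicOpen (f i) ⊓ S.basicOpen (f j)
      have hi := hs i P inf_le_left
      have hj := hs j P inf_le_right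
      have hui : IsUnit (S.presheaf.map (homOfLE ((inf_le_left : P ≤ _).trans (S.basicOpen_le (f i)))).op (f i)) := by
        have := (hu i).map (S.presheaf.map (homOfLE (inf_le_left : P ≤ _)).op).hom
        simpa only [res_res] using this
      have huj : IsUnit (S.presheaf.map (homOfLE ((inf_le_right : P ≤ _).trans (S.basicOpen_le (f j)))).op (f j)) := by
        have := (hu j).map (S.presheaf.map (homOfLE (inf_le_right : P ≤ _)).op).hom
        simpa only [res_res] using this
      have e := congrArg (S.presheaf.map (homOfLE ((inf_le_left : P ≤ _).trans (S.basicOpen_le (f i)))).op) (ha' i j)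
      rw [map_mul, map_mul, map_pow, map_pow] at e
      rw [← hi, ← hj] at e
      show S.presheaf.map (homOfLE (inf_le_left : P ≤ _)).op (s i) = S.presheaf.map (homOfLE (inf_le_right : P ≤ _)).op (s j)
      refine ((hui.pow n).mul (huj.pow n)).mul_left_cancel ?_
      linear_combination e
    obtain ⟨σ, hσ, -⟩ := TopCat.Sheaf.existsUnique_gluing' S.sheaf (fun i => S.basicOpen (f i)) O
      (fun i => homOfLE (hcov i)) (fun x hx => Opens.mem_iSup.2 (hcov' x hx)) s hcomp
    obtain ⟨x, hx⟩ := hbij.2 σ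
    refine ⟨x, funext fun i => sub_eq_zero.1 (hbij.1 ?_)⟩
    rw [map_zero]
    refine TopCat.Sheaf.eq_of_locally_eq' S.sheaf (fun j => S.basicOpen (f j)) O
      (fun j => homOfLE (hcov j)) (fun y hy => Opens.mem_iSup.2 (hcov' y hy)) _ _ fun j => ?_
    show S.presheaf.map (homOfLE (hcov j)).op (S.presheaf.map (homOfLE hOW).op _) = S.presheaf.map _ 0
    rw [map_zero, powMap_apply, smul_eq_mul, map_sub, map_mul, map_sub, map_mul, hx, map_pow, map_pow]
    have h1 : S.presheaf.map (homOfLE (hcov j)).op σ = s j := hσ j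
    have h2 := hs j (S.basicOpen (f j)) le_rfl
    have huj := hu j
    have e := congrArg (S.presheaf.map (homOfLE (S.basicOpen_le (f j))).op) (ha' i j)
    rw [map_mul, map_mul, map_pow, map_pow] at e
    simp only [res_res] at h2 ⊢
    change S.presheaf.map (homOfLE (S.basicOpen_le (f j))).op (f i) ^ n * S.presheaf.map (homOfLE (hcov j)).op σ -
      S.presheaf.map (homOfLE (S.basicOpen_le (f j))).op (a i) = 0
    rw [h1]
    rw [show (homOfLE (le_refl (S.basicOpen (f j)))) = 𝟙 _ from rfl, op_id, CategoryTheory.Functor.map_id, ConcreteCategory.id_apply] at h2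
    refine (huj.pow n).mul_right_eq_zero.1 ?_
    rw [mul_sub, e, mul_left_comm, h2, sub_self]
  · rintro ⟨x, rfl⟩
    funext p
    simp only [relMap_apply, powMap_apply, smul_smul, mul_comm, sub_self, Pi.zero_apply]

end Functions

section Modules

variable {X : Scheme.{u}} {M : X.Modules} {W O : X.Opens} (hOW : O ≤ W)
  {A : Type u} [CommRing A] (φ : A →+* Γ(X, W)) {ι : Type} [Fintype ι] (f : ι → A)
  (hcov : ∀ i, X.basicOpen (φ (f i)) ≤ O) (hcov' : ∀ x ∈ O, ∃ i, x ∈ X.basicOpen (φ (f i)))

theorem exists_common_pow (P : ι → ℕ → Prop) (hP : ∀ i n m, n ≤ m → P i n → P i m) (h : ∀ i, ∃ n, P i n) :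
    ∃ n, ∀ i, P i n := by
  choose g hg using h
  exact ⟨Finset.univ.sup g, fun i => hP i _ _ (Finset.le_sup (Finset.mem_univ i)) (hg i)⟩

include hcov in
theorem sect_injective (hM : Coh.IsQCoh M) (hW : IsAffineOpen W)
    (hflat : letI : Module A Γ(M, W) := Module.compHom _ φ; Module.Flat A Γ(M, W))
    (hinj : ∀ n, Function.Injective (powMap f n A)) :
    Function.Injective (M.presheaf.map (homOfLE hOW).op) := by
  classical
  letI : Module A Γ(M, W) := Module.compHom _ φ
  haveI := hflat
  refine (injective_iff_map_eq_zero (M.presheaf.map (homOfLE hOW).op).hom).2 fun t ht => ?_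
  obtain ⟨n, hn⟩ := exists_common_pow (fun i n => φ (f i) ^ n • t = 0)
    (fun i n m hnm h => by rw [← Nat.sub_add_cancel hnm, pow_add, mul_smul, h, smul_zero]) fun i => by
      refine exists_pow_smul_eq_zero hM hW (φ (f i)) t ?_
      have e : (homOfLE (X.basicOpen_le (φ (f i)))) = homOfLE (hcov i) ≫ homOfLE hOW := rfl
      rw [e, op_comp, Functor.map_comp]
      change M.presheaf.map (homOfLE (hcov i)).op (M.presheaf.map (homOfLE hOW).op t) = 0
      rw [show M.presheaf.map (homOfLE hOW).op t = 0 from ht, map_zero]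
  refine powMap_injective_of_flat f n Γ(M, W) (hinj n) (funext fun i => ?_)
  rw [map_zero, powMap_apply]
  exact (show φ (f i ^ n) • t = 0 by rw [map_pow]; exact hn i)

include hcov hcov' in
theorem sect_surjective (hM : Coh.IsQCoh M) (hW : IsAffineOpen W)
    (hflat : letI : Module A Γ(M, W) := Module.compHom _ φ; Module.Flat A Γ(M, W))
    (hex : ∀ n, Function.Exact (powMap f n A) (relMap f n A)) :
    Function.Surjective (M.presheaf.map (homOfLE hOW).op) := by
  classical
  letI : Module A Γ(M, W) := Module.compHom _ φ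
  haveI := hflat
  intro σ
  let d : ∀ i, X.basicOpen (φ (f i)) ⟶ W := fun i => homOfLE (X.basicOpen_le _)
  let res : ∀ i, Γ(M, W) → Γ(M, X.basicOpen (φ (f i))) := fun i => M.presheaf.map (d i).op
  let g : ∀ i, Γ(X, X.basicOpen (φ (f i))) := fun i => X.presheaf.map (d i).op (φ (f i))
  let σr : ∀ i, Γ(M, X.basicOpen (φ (f i))) := fun i => M.presheaf.map (homOfLE (hcov i)).op σ
  obtain ⟨n, hn⟩ := exists_common_pow (fun i n => ∃ t : Γ(M, W), res i t = g i ^ n • σr i)
    (fun i n m hnm ⟨t, ht⟩ => ⟨φ (f i) ^ (m - n) • t, by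
      show M.presheaf.map (d i).op (φ (f i) ^ (m - n) • t) = _
      rw [QCoh.map_smul', map_pow]
      change g i ^ (m - n) • res i t = _
      rw [ht, ← mul_smul, ← pow_add, Nat.sub_add_cancel hnm]⟩)
    fun i => exists_pow_smul_eq_map hM hW (φ (f i)) (σr i)
  choose t ht using hn
  have hk : ∀ p : ι × ι, ∃ k, (φ (f p.1) * φ (f p.2)) ^ k •
      (φ (f p.2) ^ n • t p.1 - φ (f p.1) ^ n • t p.2) = 0 := fun p => by
    refine exists_pow_smul_eq_zero hM hW _ _ ?_
    have hl : X.basicOpen (φ (f p.1) * φ (f p.2)) ≤ X.basicOpen (φ (f p.1)) :=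
      (X.basicOpen_mul _ _).trans_le inf_le_left
    have hr : X.basicOpen (φ (f p.1) * φ (f p.2)) ≤ X.basicOpen (φ (f p.2)) :=
      (X.basicOpen_mul _ _).trans_le inf_le_right
    have e1 := congrArg (M.presheaf.map (homOfLE hl).op) (ht p.1)
    have e2 := congrArg (M.presheaf.map (homOfLE hr).op) (ht p.2)
    simp only [res, g, σr, d, QCoh.map_smul', map_pow, res_res, res_resM] at e1 e2
    rw [map_sub, QCoh.map_smul', QCoh.map_smul', map_pow, map_pow]
    change X.presheaf.map _ (φ (f p.2)) ^ n • M.presheaf.map (homOfLE (hl.trans (X.basicOpen_le _))).op (t p.1) -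
      X.presheaf.map _ (φ (f p.1)) ^ n • M.presheaf.map (homOfLE (hr.trans (X.basicOpen_le _))).op (t p.2) = 0
    rw [e1, e2, sub_eq_zero, smul_smul, smul_smul]
    congr 1
    exact mul_comm _ _
  obtain ⟨k, hk⟩ := exists_common_pow (ι := ι × ι) (fun p k => (φ (f p.1) * φ (f p.2)) ^ k •
      (φ (f p.2) ^ n • t p.1 - φ (f p.1) ^ n • t p.2) = 0)
    (fun p a b hab h => by rw [← Nat.sub_add_cancel hab, pow_add, mul_smul, h, smul_zero]) hk
  obtain ⟨m, hm⟩ := exists_powMap_of_flat f (n + k) Γ(M, W) (hex _) (fun i => φ (f i) ^ k • t i) (funext fun p => by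
    rw [relMap_apply, Pi.zero_apply]
    have := hk p
    rw [smul_sub, smul_smul, smul_smul] at this
    change φ (f p.2 ^ (n + k)) • φ (f p.1) ^ k • t p.1 - φ (f p.1 ^ (n + k)) • φ (f p.2) ^ k • t p.2 = 0
    rw [map_pow, map_pow, smul_smul, smul_smul]
    simpa only [pow_add, mul_pow, mul_comm, mul_left_comm, mul_assoc] using this)
  refine ⟨m, sub_eq_zero.1 (eq_zero_of_locally O _ fun y hy => ?_)⟩
  obtain ⟨i, hi⟩ := hcov' y hy
  refine ⟨_, homOfLE (hcov i), hi, ?_⟩
  have hu : IsUnit (g i) := RingedSpace.isUnit_res_basicOpen X.toRingedSpace (φ (f i))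
  rw [map_sub, sub_eq_zero]
  refine (hu.pow (n + k)).smul_left_cancel.1 ?_
  have e := congrArg (res i) (congrFun hm i)
  change res i (φ (f i ^ (n + k)) • m) = res i (φ (f i) ^ k • t i) at e
  simp only [res, map_pow, QCoh.map_smul'] at e
  change g i ^ (n + k) • res i m = g i ^ k • res i (t i) at e
  rw [ht, ← mul_smul, ← pow_add, add_comm k n] at e
  simpa only [res, σr, d, res_resM] using e

end Modules

section Global

variable {X : Scheme.{u}} {M : X.Modules} (U : X.Opens)

theorem injective_of_locally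
    (h : ∀ (O : X.Opens), ∀ x ∈ O, ∃ W : X.Opens, x ∈ W ∧ W ≤ O ∧
      Function.Injective (M.presheaf.map (homOfLE (inf_le_left : W ⊓ U ≤ W)).op))
    (O : X.Opens) : Function.Injective (M.presheaf.map (homOfLE (inf_le_left : O ⊓ U ≤ O)).op) := by
  refine (injective_iff_map_eq_zero (M.presheaf.map (homOfLE (inf_le_left : O ⊓ U ≤ O)).op).hom).2 fun t ht => ?_
  refine eq_zero_of_locally O t fun x hx => ?_
  obtain ⟨W, hxW, hWO, hW⟩ := h O x hx
  refine ⟨W, homOfLE hWO, hxW, hW ?_⟩
  rw [map_zero, ← ConcreteCategory.comp_apply, ← Functor.map_comp]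
  change M.presheaf.map ((homOfLE (inf_le_left : O ⊓ U ≤ O)).op ≫ (homOfLE (inf_le_inf_right U hWO)).op) t = 0
  rw [Functor.map_comp, ConcreteCategory.comp_apply]
  rw [show M.presheaf.map (homOfLE (inf_le_left : O ⊓ U ≤ O)).op t = 0 from ht, map_zero]

theorem bijective_of_locally
    (h : ∀ (O : X.Opens), ∀ x ∈ O, ∃ W : X.Opens, x ∈ W ∧ W ≤ O ∧
      Function.Bijective (M.presheaf.map (homOfLE (inf_le_left : W ⊓ U ≤ W)).op))
    (O : X.Opens) : Function.Bijective (M.presheaf.map (homOfLE (inf_le_left : O ⊓ U ≤ O)).op) := by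
  have hinj := injective_of_locally (M := M) U fun O x hx =>
    let ⟨W, a, b, c⟩ := h O x hx; ⟨W, a, b, c.1⟩
  refine ⟨hinj O, fun σ => ?_⟩
  choose W hxW hWO hW using fun p : O => h O p.1 p.2
  choose t ht using fun p => (hW p).2 (M.presheaf.map (homOfLE (inf_le_inf_right U (hWO p))).op σ)
  have hcomp : TopCat.Presheaf.IsCompatible M.presheaf W t := fun p q => by
    refine hinj (W p ⊓ W q) ?_
    have e1 := congrArg (M.presheaf.map (homOfLE (inf_le_inf_right U (inf_le_left : W p ⊓ W q ≤ W p))).op) (ht p)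
    have e2 := congrArg (M.presheaf.map (homOfLE (inf_le_inf_right U (inf_le_right : W p ⊓ W q ≤ W q))).op) (ht q)
    simp only [← ConcreteCategory.comp_apply, ← Functor.map_comp] at e1 e2 ⊢
    exact e1.trans e2.symm
  obtain ⟨s, hs, -⟩ := TopCat.Sheaf.existsUnique_gluing' ⟨M.presheaf, M.isSheaf⟩ W O (fun p => homOfLE (hWO p))
    (fun x hx => Opens.mem_iSup.2 ⟨⟨x, hx⟩, hxW ⟨x, hx⟩⟩) t hcomp
  refine ⟨s, sub_eq_zero.1 (eq_zero_of_locally _ _ fun x hx => ?_)⟩
  refine ⟨W ⟨x, hx.1⟩ ⊓ U, homOfLE (inf_le_inf_right U (hWO ⟨x, hx.1⟩)), ⟨hxW _, hx.2⟩, ?_⟩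
  rw [map_sub, sub_eq_zero]
  have e := congrArg (M.presheaf.map (homOfLE (inf_le_left : W ⟨x, hx.1⟩ ⊓ U ≤ W ⟨x, hx.1⟩)).op) (hs ⟨x, hx.1⟩)
  simp only [← ConcreteCategory.comp_apply, ← Functor.map_comp] at e ⊢
  exact e.trans (ht ⟨x, hx.1⟩)

end Global

end Groth.Agent.FlatHartogs
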